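import Mathlib
import Groth.Prelude.Def_AssocGr
import Groth.Prelude.Def_AssocGrMod
import Groth.Prelude.Def_GrMap
import Groth.Prelude.Def_GrMap2

/-!
Successive approximation along associated graded rings and modules.
-/

set_option autoImplicit false
universe u

noncomputable section

namespace Groth.Agent.AdicGr

open AssocGr Polynomial

section Rings

variable {A B : Type u} [CommRing A] [CommRing B] {φ : A →+* B}
  {𝓕 : FiltBl.IdealFiltration A} {𝓖 : FiltBl.IdealFiltration B} (h : IsFiltHom φ 𝓕 𝓖)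

theorem injective_map (hs : ∀ n a, a ∈ 𝓕.F n → φ a ∈ 𝓖.F (n + 1) → a ∈ 𝓕.F (n + 1)) :
    Function.Injective (AssocGr.map h) := by
  rw [injective_iff_map_eq_zero]
  intro x hx
  obtain ⟨f, rfl⟩ := mkG_surjective 𝓕 x
  rw [map_mkG, mkG_eq_zero_iff, mem_succIdeal_iff] at hx
  rw [mkG_eq_zero_iff, mem_succIdeal_iff]
  exact fun n => hs n _ (f.2 n) (by simpa [coe_reesMap, coeff_map] using hx n)

theorem surjective_map (hs : ∀ n b, b ∈ 𝓖.F n → ∃ a ∈ 𝓕.F n, φ a - b ∈ 𝓖.F (n + 1)) :
    Function.Surjective (AssocGr.map h) := by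
  intro y
  obtain ⟨g, rfl⟩ := mkG_surjective 𝓖 y
  suffices hg : mkG 𝓖 g ∈ (AssocGr.map h).range from hg
  rw [← sum_term 𝓖 g, map_sum]
  refine Subring.sum_mem _ fun n _ => ?_
  obtain ⟨a, ha, hab⟩ := hs n ((g : B[X]).coeff n) (g.2 n)
  refine ⟨mkG 𝓕 (monom 𝓕 n ⟨a, ha⟩ : 𝓕.rees), ?_⟩
  rw [map_mkG, ← sub_eq_zero, ← map_sub, mkG_eq_zero_iff, mem_succIdeal_iff]
  intro m
  rw [Subalgebra.coe_sub, coe_reesMap, coe_term, coeff_sub, coeff_map, coe_coe_monom, coeff_monomial, coeff_monomial]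
  split_ifs with hm
  · exact hm ▸ hab
  · simp

theorem exists_approx (hs : Function.Surjective (AssocGr.map h)) (n : ℕ) {b : B} (hb : b ∈ 𝓖.F n) :
    ∃ a ∈ 𝓕.F n, φ a - b ∈ 𝓖.F (n + 1) := by
  obtain ⟨x, hx⟩ := hs (mkG 𝓖 (monom 𝓖 n ⟨b, hb⟩ : 𝓖.rees))
  obtain ⟨f, rfl⟩ := mkG_surjective 𝓕 x
  rw [map_mkG, ← sub_eq_zero, ← map_sub, mkG_eq_zero_iff, mem_succIdeal_iff] at hx
  refine ⟨_, f.2 n, ?_⟩
  have := hx n
  rwa [Subalgebra.coe_sub, coe_reesMap, coeff_sub, coeff_map, coe_coe_monom, coeff_monomial, if_pos rfl] at this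

theorem isDomain_of_isDomain_gr (𝓕 : FiltBl.IdealFiltration A) (hsep : ⨅ n, 𝓕.F n = ⊥)
    [IsDomain (GrRing 𝓕)] : IsDomain A := by
  haveI : Nontrivial A := by
    by_contra hA
    rw [not_nontrivial_iff_subsingleton] at hA
    haveI : Subsingleton (GrRing 𝓕) := (Module.subsingleton A (GrRing 𝓕))
    exact not_subsingleton (GrRing 𝓕) inferInstance
  classical
  have order : ∀ a : A, a ≠ 0 → ∃ m, a ∈ 𝓕.F m ∧ a ∉ 𝓕.F (m + 1) := by
    intro a ha
    by_contra! hc
    refine ha ((Submodule.mem_bot A).1 (hsep ▸ (Submodule.mem_iInf _).2 fun n => ?_))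
    induction n with
    | zero => rw [𝓕.zero_eq]; trivial
    | succ n ih => exact hc n ih
  haveI : NoZeroDivisors A := ⟨fun {a b} hab => by
    by_contra! hc
    obtain ⟨m, hm, hm'⟩ := order a hc.1
    obtain ⟨n, hn, hn'⟩ := order b hc.2
    have hmul := coe_inDeg_mul 𝓕 m n ⟨a, hm⟩ ⟨b, hn⟩
    have h0 : inDeg 𝓕 (m + n) ⟨a * b, 𝓕.mul_le m n (Ideal.mul_mem_mul hm hn)⟩ = 0 := by
      rw [inDeg_eq_zero_iff]
      change a * b ∈ _
      rw [hab]
      exact zero_mem _
    rw [h0, ZeroMemClass.coe_zero, mul_eq_zero] at hmul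
    rcases hmul with h1 | h1
    · exact hm' ((inDeg_eq_zero_iff 𝓕 m ⟨a, hm⟩).1 (Subtype.ext h1))
    · exact hn' ((inDeg_eq_zero_iff 𝓕 n ⟨b, hn⟩).1 (Subtype.ext h1))⟩
  exact NoZeroDivisors.to_isDomain A

end Rings

section Kernel

variable {A : Type u} [CommRing A] (I : Ideal A)

theorem bijective_map_kerFilt : Function.Bijective (AssocGr.map (isFiltHom_kerFilt I)) := by
  constructor
  · refine injective_map _ fun n a _ ha => ?_
    rw [mem_kerFilt_iff, AdicCompletion.algebraMap_apply, Algebra.algebraMap_self, RingHom.id_apply,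
      AdicCompletion.evalₐ_of] at ha
    exact Ideal.Quotient.eq_zero_iff_mem.1 ha
  · refine surjective_map _ fun n b hb => ?_
    obtain ⟨a, ha⟩ := Ideal.Quotient.mk_surjective (AdicCompletion.evalₐ I (n + 1) b)
    have hd : algebraMap A (AdicCompletion I A) a - b ∈ (kerFilt I).F (n + 1) := by
      rw [mem_kerFilt_iff, map_sub, AdicCompletion.algebraMap_apply, Algebra.algebraMap_self, RingHom.id_apply,
        AdicCompletion.evalₐ_of, ha, sub_self]
    refine ⟨a, ?_, hd⟩
    have h1 := add_mem ((kerFilt I).antitone (Nat.le_succ n) hd) hb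
    rw [sub_add_cancel, mem_kerFilt_iff, AdicCompletion.algebraMap_apply, Algebra.algebraMap_self,
      RingHom.id_apply, AdicCompletion.evalₐ_of] at h1
    exact Ideal.Quotient.eq_zero_iff_mem.1 h1

end Kernel

section Limit

variable {A : Type u} [CommRing A] {I : Ideal A}

theorem exists_limit [IsPrecomplete I A] (s : ℕ → A) (hs : ∀ n, s (n + 1) - s n ∈ I ^ n) :
    ∃ L, ∀ n, s n - L ∈ I ^ n := by
  have hle : ∀ m n, m ≤ n → s n - s m ∈ I ^ m := by
    intro m n hmn
    induction n, hmn using Nat.le_induction with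
    | base => simp
    | succ n hmn ih =>
      rw [← sub_add_sub_cancel (s (n + 1)) (s n) (s m)]
      exact add_mem (Ideal.pow_le_pow_right hmn (hs n)) ih
  obtain ⟨L, hL⟩ := IsPrecomplete.prec (I := I) inferInstance (f := s) fun {m n} hmn => by
    rw [SModEq.sub_mem, smul_eq_mul, Ideal.mul_top, ← neg_sub]
    exact neg_mem (hle m n hmn)
  exact ⟨L, fun n => by simpa [SModEq.sub_mem, smul_eq_mul, Ideal.mul_top] using hL n⟩

variable {B : Type u} [CommRing B] {J : Ideal B} {φ : A →+* B} (hIJ : I.map φ ≤ J)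
  [IsPrecomplete I A] [IsHausdorff J B]

theorem exists_preimage (hs : Function.Surjective (AssocGr.map (IsFiltHom.adic hIJ))) (m : ℕ) {b : B}
    (hb : b ∈ J ^ m) : ∃ a ∈ I ^ m, φ a = b := by
  have hstep : ∀ (n : ℕ) (c : B), c ∈ J ^ n → ∃ a ∈ I ^ n, φ a - c ∈ J ^ (n + 1) :=
    fun n c hc => exists_approx (IsFiltHom.adic hIJ) hs n hc
  let T := fun k => {a : A // a ∈ I ^ m ∧ φ a - b ∈ J ^ (m + k)}
  let nxt : ∀ k, T k → T (k + 1) := fun k a =>
    ⟨a.1 - (hstep _ _ a.2.2).choose,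
      sub_mem a.2.1 (Ideal.pow_le_pow_right (Nat.le_add_right m k) (hstep _ _ a.2.2).choose_spec.1),
      by
        have h := (hstep _ _ a.2.2).choose_spec.2
        rw [map_sub, show φ a.1 - φ (hstep _ _ a.2.2).choose - b =
          -(φ (hstep _ _ a.2.2).choose - (φ a.1 - b)) by ring]
        exact neg_mem h⟩
  let S : ∀ k, T k := fun k =>
    Nat.rec (motive := T) ⟨0, zero_mem _, by simpa using neg_mem hb⟩ nxt k
  have hS : ∀ k, (S (k + 1)).1 - (S k).1 ∈ I ^ (m + k) := fun k => by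
    change ((S k).1 - (hstep _ _ (S k).2.2).choose) - (S k).1 ∈ _
    rw [sub_sub_cancel_left]
    exact neg_mem (hstep _ _ (S k).2.2).choose_spec.1
  obtain ⟨a, ha⟩ := exists_limit (I := I) (fun k => (S k).1) fun k =>
    Ideal.pow_le_pow_right (Nat.le_add_left k m) (hS k)
  refine ⟨a, ?_, IsHausdorff.eq_iff_smodEq (I := J) |>.2 fun n => ?_⟩
  · rw [← sub_sub_self (S m).1 a]
    exact sub_mem (S m).2.1 (ha m)
  · rw [SModEq.sub_mem, smul_eq_mul, Ideal.mul_top,
      show φ a - b = (φ (S n).1 - b) - φ ((S n).1 - a) by rw [map_sub]; ring]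
    refine sub_mem (Ideal.pow_le_pow_right (Nat.le_add_left n m) (S n).2.2) ?_
    have h1 : φ ((S n).1 - a) ∈ (I ^ n).map φ := Ideal.mem_map_of_mem φ (ha n)
    rw [Ideal.map_pow] at h1
    exact Ideal.pow_right_mono hIJ n h1

theorem surjective_and_complete (hs : Function.Surjective (AssocGr.map (IsFiltHom.adic hIJ))) :
    Function.Surjective φ ∧ I.map φ = J ∧ IsAdicComplete J B := by
  have hsur : Function.Surjective φ := fun b => by
    obtain ⟨a, -, ha⟩ := exists_preimage hIJ hs 0 (b := b) (by simp)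
    exact ⟨a, ha⟩
  refine ⟨hsur, le_antisymm hIJ fun b hb => ?_, { toIsHausdorff := inferInstance, toIsPrecomplete := ⟨fun f hf => ?_⟩ }⟩
  · obtain ⟨a, ha, rfl⟩ := exists_preimage hIJ hs 1 (by rwa [pow_one])
    exact Ideal.mem_map_of_mem φ (by rwa [pow_one] at ha)
  · have hd : ∀ n, f (n + 1) - f n ∈ J ^ n := fun n => by
      have h1 := SModEq.sub_mem.1 (hf (Nat.le_succ n))
      rw [smul_eq_mul, Ideal.mul_top] at h1
      rw [← neg_sub]
      exact neg_mem h1
    choose d hdI hd' using fun n => exists_preimage hIJ hs n (hd n)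
    let s : ℕ → A := fun n => (hsur (f 0)).choose + ∑ i ∈ Finset.range n, d i
    have hφs : ∀ n, φ (s n) = f n := fun n => by
      induction n with
      | zero => simp [s, (hsur (f 0)).choose_spec]
      | succ n ih =>
        simp only [s, Finset.sum_range_succ, ← add_assoc, map_add] at ih ⊢
        rw [ih, hd' n, add_sub_cancel]
    obtain ⟨L, hL⟩ := exists_limit (I := I) s fun n => by
      simp only [s, Finset.sum_range_succ, ← add_assoc, add_sub_cancel_left]
      exact hdI n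
    refine ⟨φ L, fun n => ?_⟩
    rw [SModEq.sub_mem, smul_eq_mul, Ideal.mul_top, ← hφs, ← map_sub]
    have h1 : φ (s n - L) ∈ (I ^ n).map φ := Ideal.mem_map_of_mem φ (hL n)
    rw [Ideal.map_pow] at h1
    exact Ideal.pow_right_mono hIJ n h1

end Limit

section Modules

variable {A : Type u} [CommRing A] {I : Ideal A} {M : Type u} [AddCommGroup M] [Module A M]
  (F : I.Filtration M)

theorem antitone_N {m n : ℕ} (h : m ≤ n) : F.N n ≤ F.N m := antitone_nat_of_succ_le F.mono h

/-- Successive approximation in a filtered module over a precomplete ring. -/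
theorem closure_le_span [IsPrecomplete I A] (h0 : F.N 0 = ⊤) (hsep : ⨅ n, F.N n = ⊥)
    {ι : Type*} [Fintype ι] (d : ι → ℕ) (x : ι → M) (hx : ∀ i, x i ∈ F.N (d i))
    (M' : Submodule A M) (hxM' : ∀ i, x i ∈ M')
    (hstep : ∀ n, ∀ z ∈ M', z ∈ F.N n → ∃ c : ι → A,
      (∀ i, c i ∈ I ^ (n - d i)) ∧ z - ∑ i, c i • x i ∈ F.N (n + 1))
    {y : M} (hy : ∀ n, y ∈ M' ⊔ F.N n) : y ∈ Submodule.span A (Set.range x) := by
  classical
  have step : ∀ (n : ℕ) (z : M), (∀ k, z ∈ M' ⊔ F.N k) → z ∈ F.N n →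
      ∃ c : ι → A, (∀ i, c i ∈ I ^ (n - d i)) ∧ z - ∑ i, c i • x i ∈ F.N (n + 1) := by
    intro n z hz hzn
    obtain ⟨u, hu, r, hr, hur⟩ := Submodule.mem_sup.1 (hz (n + 1))
    have hun : u ∈ F.N n := by
      rw [show u = z - r from eq_sub_of_add_eq hur]
      exact sub_mem hzn (antitone_N F (Nat.le_succ n) hr)
    obtain ⟨c, hc, hcu⟩ := hstep n u hu hun
    refine ⟨c, hc, ?_⟩
    rw [← hur, add_sub_right_comm]
    exact add_mem hcu hr
  let T := fun n => {S : ι → A // y - ∑ i, S i • x i ∈ F.N n}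
  have hclos : ∀ n (S : T n) k, y - ∑ i, S.1 i • x i ∈ M' ⊔ F.N k := fun n S k =>
    sub_mem (hy k) (Submodule.mem_sup_left (Submodule.sum_mem _ fun i _ => M'.smul_mem _ (hxM' i)))
  let nxt : ∀ n, T n → T (n + 1) := fun n S =>
    ⟨S.1 + (step n _ (hclos n S) S.2).choose, by
      have h1 := (step n _ (hclos n S) S.2).choose_spec.2
      rwa [sub_sub, ← Finset.sum_add_distrib, ← Finset.sum_congr rfl fun i _ => add_smul _ _ (x i)] at h1⟩
  let S : ∀ n, T n := fun n => Nat.rec (motive := T) ⟨0, by rw [h0]; trivial⟩ nxt n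
  have hS : ∀ n i, (S (n + 1)).1 i - (S n).1 i ∈ I ^ (n - d i) := fun n i => by
    change ((S n).1 + (step n _ (hclos n (S n)) (S n).2).choose) i - (S n).1 i ∈ _
    rw [Pi.add_apply, add_sub_cancel_left]
    exact (step n _ (hclos n (S n)) (S n).2).choose_spec.1 i
  choose L hL using fun i => exists_limit (I := I) (fun n => (S (n + d i)).1 i) fun n => by
    have := hS (n + d i) i
    rwa [Nat.add_sub_cancel, show n + d i + 1 = n + 1 + d i by omega] at this
  have hle : ∀ (i : ι) (m n : ℕ), m ≤ n → (S n).1 i - (S m).1 i ∈ I ^ (m - d i) := by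
    intro i m n hmn
    induction n, hmn using Nat.le_induction with
    | base => simp
    | succ n hmn ih =>
      rw [← sub_add_sub_cancel ((S (n + 1)).1 i) ((S n).1 i) ((S m).1 i)]
      exact add_mem (Ideal.pow_le_pow_right (Nat.sub_le_sub_right hmn _) (hS n i)) ih
  have key : y = ∑ i, L i • x i := by
    refine sub_eq_zero.1 ((Submodule.mem_bot A).1 (hsep ▸ (Submodule.mem_iInf _).2 fun n => ?_))
    have h1 : ∑ i, (L i - (S n).1 i) • x i ∈ F.N n := Submodule.sum_mem _ fun i _ => by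
      have h2 : L i - (S n).1 i ∈ I ^ (n - d i) := by
        rw [show L i - (S n).1 i = ((S (n + d i)).1 i - (S n).1 i) - ((S (n + d i)).1 i - L i) by ring]
        exact sub_mem (hle i n (n + d i) (Nat.le_add_right n _)) (Ideal.pow_le_pow_right (Nat.sub_le n _) (hL i n))
      exact antitone_N F (by omega) (F.pow_smul_le (n - d i) (d i) (Submodule.smul_mem_smul h2 (hx i)))
    have h3 := sub_mem (S n).2 h1
    simp only [sub_smul, Finset.sum_sub_distrib] at h3
    rwa [show y - ∑ i, (S n).1 i • x i - (∑ i, L i • x i - ∑ i, (S n).1 i • x i) = y - ∑ i, L i • x i by abel] at h3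
  rw [key]
  exact Submodule.sum_mem _ fun i _ => Submodule.smul_mem _ _ (Submodule.subset_span ⟨i, rfl⟩)

/-- Membership in a span of classes gives approximations. -/
theorem exists_coeff_of_mem_span {ι : Type*} [Fintype ι] (d : ι → ℕ) (x : ∀ i, F.N (d i)) (n : ℕ) (z : F.N n)
    (hz : (inDegM F n z : GrMod F) ∈ Submodule.span (GrRing (FiltBl.IdealFiltration.adic I))
      (Set.range fun i => (inDegM F (d i) (x i) : GrMod F))) :
    ∃ c : ι → A, (∀ i, c i ∈ I ^ (n - d i)) ∧ (z : M) - ∑ i, c i • (x i : M) ∈ F.N (n + 1) := by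
  classical
  obtain ⟨g, hg⟩ := (Submodule.mem_span_range_iff_exists_fun _).1 hz
  choose f hf using fun i => mkG_surjective (FiltBl.IdealFiltration.adic I) (g i)
  simp only [← hf, coe_inDegM, mkG_smul_mkGM] at hg
  rw [← map_sum, ← sub_eq_zero, ← map_sub, mkGM_eq_zero_iff, mem_succMod_iff] at hg
  have h := neg_mem (hg n)
  refine ⟨fun i => if d i ≤ n then (f i : A[X]).coeff (n - d i) else 0, fun i => ?_, ?_⟩
  · dsimp only
    split_ifs
    · exact (f i).2 (n - d i)
    · exact zero_mem _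
  · convert h using 1
    rw [← ReesM.coeffHom_apply, map_sub, map_sum, neg_sub, ReesM.coeffHom_apply, ReesM.coeff_monomM, if_pos rfl]
    congr 1
    refine Finset.sum_congr rfl fun i _ => ?_
    rw [ReesM.coeffHom_apply, ReesM.coeff_smul]
    simp only [ReesM.coeff_monomM, smul_ite, smul_zero, ite_smul, zero_smul]
    split_ifs with hd
    · rw [Finset.sum_eq_single (n - d i, d i)]
      · simp
      · rintro ⟨p, q⟩ hpq hne
        rw [if_neg]
        rintro rfl
        rw [Finset.HasAntidiagonal.mem_antidiagonal] at hpq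
        exact hne (by simp; omega)
      · intro hmem
        exact absurd (Finset.HasAntidiagonal.mem_antidiagonal.2 (by simp only []; omega)) hmem
    · refine (Finset.sum_eq_zero fun p hp => ?_).symm
      rw [if_neg]
      intro he
      rw [Finset.HasAntidiagonal.mem_antidiagonal] at hp
      omega

/-- A finitely generated submodule spanned by classes is spanned by finitely many of them. -/
theorem exists_fin_classes (P : Submodule A M)
    (h : (Submodule.span (GrRing (FiltBl.IdealFiltration.adic I))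
      {v : GrMod F | ∃ (n : ℕ) (z : F.N n), (z : M) ∈ P ∧ (inDegM F n z : GrMod F) = v}).FG) :
    ∃ (k : ℕ) (d : Fin k → ℕ) (x : ∀ i, F.N (d i)), (∀ i, (x i : M) ∈ P) ∧
      ∀ n (z : F.N n), (z : M) ∈ P → (inDegM F n z : GrMod F) ∈
        Submodule.span (GrRing (FiltBl.IdealFiltration.adic I))
          (Set.range fun i => (inDegM F (d i) (x i) : GrMod F)) := by
  obtain ⟨t, ht, htspan⟩ := Submodule.fg_span_iff_fg_span_finset_subset _ |>.1 h
  let e := t.equivFin
  choose d x hxP hx using fun i => ht (e.symm i).2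
  refine ⟨t.card, d, x, hxP, fun n z hz => ?_⟩
  have : (inDegM F n z : GrMod F) ∈ Submodule.span (GrRing (FiltBl.IdealFiltration.adic I)) (t : Set (GrMod F)) := by
    rw [← htspan]; refine Submodule.subset_span ?_; exact ⟨n, z, hz, rfl⟩
  refine Submodule.span_mono ?_ this
  intro v hv
  refine ⟨e ⟨v, hv⟩, ?_⟩
  dsimp only
  rw [hx, Equiv.symm_apply_apply]

theorem classes_top : Submodule.span (GrRing (FiltBl.IdealFiltration.adic I))
    {v : GrMod F | ∃ (n : ℕ) (z : F.N n), (z : M) ∈ (⊤ : Submodule A M) ∧ (inDegM F n z : GrMod F) = v} = ⊤ := by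
  classical
  rw [eq_top_iff]
  intro v _
  obtain ⟨y, rfl⟩ := mkGM_surjective F v
  rw [← DirectSum.sum_support_decompose (grM F) (mkGM F y)]
  refine Submodule.sum_mem _ fun n _ => ?_
  obtain ⟨z, hz⟩ := inDegM_surjective F n (DirectSum.decompose (grM F) (mkGM F y) n)
  exact Submodule.subset_span ⟨n, z, trivial, by rw [hz]⟩

theorem finite_of_finite_gr [IsPrecomplete I A] (h0 : F.N 0 = ⊤) (hsep : ⨅ n, F.N n = ⊥)
    [Module.Finite (GrRing (FiltBl.IdealFiltration.adic I)) (GrMod F)] : Module.Finite A M := by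
  obtain ⟨k, d, x, -, hx⟩ := exists_fin_classes F ⊤ (by rw [classes_top F]; exact Module.Finite.fg_top)
  refine ⟨Submodule.fg_iff_exists_fin_generating_family.2 ⟨k, fun i => (x i : M), eq_top_iff.2 fun y _ => ?_⟩⟩
  exact closure_le_span F h0 hsep d _ (fun i => (x i).2) ⊤ (fun _ => trivial)
    (fun n z _ hz => exists_coeff_of_mem_span F d x n ⟨z, hz⟩ (hx n ⟨z, hz⟩ trivial))
    (fun n => Submodule.mem_sup_left trivial)

theorem noetherian_closed [IsPrecomplete I A] (h0 : F.N 0 = ⊤) (hsep : ⨅ n, F.N n = ⊥)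
    [IsNoetherian (GrRing (FiltBl.IdealFiltration.adic I)) (GrMod F)] (P : Submodule A M) :
    P.FG ∧ ⨅ n, P ⊔ F.N n = P := by
  obtain ⟨k, d, x, hxP, hx⟩ := exists_fin_classes F P (IsNoetherian.noetherian _)
  have key : ∀ y : M, (∀ n, y ∈ P ⊔ F.N n) → y ∈ Submodule.span A (Set.range fun i => (x i : M)) := fun y hy =>
    closure_le_span F h0 hsep d _ (fun i => (x i).2) P hxP
      (fun n z hz hzn => exists_coeff_of_mem_span F d x n ⟨z, hzn⟩ (hx n ⟨z, hzn⟩ hz)) hy
  have hle : Submodule.span A (Set.range fun i => (x i : M)) ≤ P :=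
    Submodule.span_le.2 (Set.range_subset_iff.2 hxP)
  refine ⟨Submodule.fg_iff_exists_fin_generating_family.2 ⟨k, fun i => (x i : M),
    le_antisymm hle fun y hy => key y fun n => Submodule.mem_sup_left hy⟩, ?_⟩
  exact le_antisymm (fun y hy => hle (key y ((Submodule.mem_iInf _).1 hy))) (le_iInf fun n => le_sup_left)

end Modules

end Groth.Agent.AdicGr
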